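import Groth.Agent.PunctAlg.Kill
import Groth.Agent.Alg6.LocLoc
import Groth.Agent.FlatLoc6.NormFlat
import Groth.Agent.S0320
import Groth.Agent.QCoh.LocFree

/-!
# Depth of sheaves of modules on an open of an affine scheme
-/

set_option autoImplicit false
set_option linter.style.haveILetI false
set_option linter.unusedSectionVars false
set_option backward.isDefEq.respectTransparency false
set_option backward.isDefEq.respectTransparency.types false

universe u

open CategoryTheory CategoryTheory.Limits AlgebraicGeometry TopologicalSpace Opposite IsLocalRing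

noncomputable section

namespace Groth.Agent.LefPunct2

open Groth.Agent Groth.Agent.PunctAlg

variable {A : Type u} [CommRing A] (U : (Spec (CommRingCat.of A)).Opens)

/-- The germ map as a ring map. -/
abbrev gHom (x : U.toScheme) : A →+* U.toScheme.presheaf.stalk x :=
  (U.toScheme.presheaf.germ ⊤ x trivial).hom.comp (Coh.toGlobal (U.toScheme ↘ Spec (CommRingCat.of A)))

theorem isLocalization_stalk (x : U.toScheme) :
    letI := (gHom U x).toAlgebra
    IsLocalization.AtPrime (U.toScheme.presheaf.stalk x) (U.ι x).asIdeal := by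
  letI := (gHom U x).toAlgebra
  exact
    { map_units := fun s => isUnit_germA U x s.1 s.2
      surj := fun r => by
        obtain ⟨b, h, hh, e⟩ := exists_germA_fraction U x r
        exact ⟨(b, ⟨h, hh⟩), (mul_comm _ _).trans e⟩
      exists_of_eq := fun {a b} e => by
        obtain ⟨h, hh, e'⟩ := exists_kill_germA U x (a - b) (by
          show gHom U x (a - b) = 0
          rw [map_sub, sub_eq_zero]; exact e)
        exact ⟨⟨h, hh⟩, by rw [mul_sub, sub_eq_zero] at e'; exact e'⟩ }

/-- The depth at a point of the sheaf of a module. -/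
theorem depth_stalk_phi (N : ModuleCat.{u} A) (x : U.toScheme) :
    LocCoh.depth (U.toScheme.presheaf.stalk x) ((DerSch.stalkFunctor U.toScheme x).obj (phi U N)) =
      LocCoh.depth (Localization.AtPrime (U.ι x).asIdeal) (LocalizedModule (U.ι x).asIdeal.primeCompl N) := by
  letI alg := (gHom U x).toAlgebra
  haveI := isLocalization_stalk U x
  let S := (DerSch.stalkFunctor U.toScheme x).obj (phi U N)
  letI : Module A S := Module.compHom S (gHom U x)
  haveI : IsScalarTower A (U.toScheme.presheaf.stalk x) S := ⟨fun a r v => mul_smul (gHom U x a) r v⟩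
  let f : N →ₗ[A] S :=
    { toFun := germM U N x
      map_add' := germM_add U N x
      map_smul' := germM_smul U N x }
  haveI : IsLocalizedModule (U.ι x).asIdeal.primeCompl f :=
    { map_units := fun s => (Module.End.isUnit_iff _).2 (by
        obtain ⟨w, hw⟩ := isUnit_germA U x s.1 s.2
        have hs : ∀ v : S, (algebraMap A (Module.End A S) (s : A)) v = (w : U.toScheme.presheaf.stalk x) • v :=
          fun v => by rw [hw]; rfl
        refine ⟨fun v v' e => ?_, fun v => ⟨(↑w⁻¹ : U.toScheme.presheaf.stalk x) • v, ?_⟩⟩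
        · rw [hs, hs] at e
          exact w.isUnit.smul_left_cancel.1 e
        · rw [hs, smul_smul, Units.mul_inv, one_smul])
      surj := fun v => by
        obtain ⟨m, g, hg, e⟩ := exists_germM U N x v
        exact ⟨(m, ⟨g, hg⟩), e⟩
      exists_of_eq := fun {m₁ m₂} e => by
        obtain ⟨g, hg, e'⟩ := (germM_eq_zero_iff U N x (m₁ - m₂)).1 (by
          show f (m₁ - m₂) = 0
          rw [map_sub, sub_eq_zero]; exact e)
        exact ⟨⟨g, hg⟩, by rw [smul_sub, sub_eq_zero] at e'; exact e'⟩ }
  exact Alg6.depth_localized_eq (U.ι x).asIdeal (U.toScheme.presheaf.stalk x) f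

/-- A finite free module has at least the depth of the ring. -/
theorem depth_le_free {R : Type u} [CommRing R] [IsLocalRing R] [IsNoetherianRing R] (F : Type u)
    [AddCommGroup F] [Module R F] [Module.Free R F] [Module.Finite R F] :
    LocCoh.depth R R ≤ LocCoh.depth R F := by
  rcases subsingleton_or_nontrivial F with h | h
  · exact le_top.trans_eq (if_pos (Subsingleton.elim _ _)).symm
  let b := Module.finBasis R F
  obtain ⟨k, hk⟩ := Nat.exists_eq_succ_of_ne_zero (Fin.pos_iff_nonempty.mpr b.index_nonempty).ne'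
  exact ((Hensel.depth_congr (b.reindex (finCongr hk)).equivFun).trans (FlatLoc6.depth_pi R k)).ge

/-- The depth of the quotient by a regular element. -/
theorem depth_quot_regular {R S : Type u} [CommRing R] [CommRing S] [IsLocalRing R] [IsLocalRing S]
    [IsNoetherianRing R] (σ : R →+* S) (hσ : Function.Surjective σ) (g : R) (hker : RingHom.ker σ = Ideal.span {g})
    (hg : g ∈ maximalIdeal R) (hreg : IsSMulRegular R g) (d : ℕ) (hd : ((d + 1 : ℕ) : ℕ∞) ≤ LocCoh.depth R R) :
    (d : ℕ∞) ≤ LocCoh.depth S S := by
  have hne : maximalIdeal R • (⊤ : Submodule R R) ≠ ⊤ := fun h => by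
    rw [smul_eq_mul, Ideal.mul_top] at h
    exact (maximalIdeal.isMaximal R).ne_top h
  have h1 := S0320.result R (maximalIdeal R) R hne g hg hreg
  have h2 : LocCoh.depth R (QuotSMulTop g R) = LocCoh.depth S S := by
    let e₁ : QuotSMulTop g R ≃ₗ[R] R ⧸ RingHom.ker σ := Submodule.quotEquivOfEq _ _ (by
      rw [hker]
      ext y
      rw [Submodule.mem_smul_pointwise_iff_exists, Ideal.mem_span_singleton']
      exact ⟨fun ⟨c, _, hc⟩ => ⟨c, (mul_comm c g).trans hc⟩, fun ⟨c, hc⟩ => ⟨c, trivial, (mul_comm g c).trans hc⟩⟩)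
    let e₂ := RingHom.quotientKerEquivOfSurjective hσ
    refine Alg6.depth_eq_of_semilinear σ hσ (e₁.toAddEquiv.trans e₂.toAddEquiv) fun r v => ?_
    obtain ⟨v, rfl⟩ := Submodule.Quotient.mk_surjective _ v
    exact map_mul σ r v
  unfold LocCoh.depth at h2 hd ⊢
  rw [← h2]
  rw [← h1, Nat.cast_add, Nat.cast_one] at hd
  exact (ENat.add_le_add_iff_right ENat.one_ne_top).1 hd

/-- The depth of a locally free module on the divisor of a regular element. -/
theorem depth_push (t : A) (hreg : IsSMulRegular A t) [IsNoetherianRing A]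
    (F₀ : (divOn U t ^ (0 + 1)).subscheme.Modules) (hF : FlatMod.IsFinLocFree F₀) (x : U.toScheme) (d : ℕ)
    (hd : t ∈ (U.ι x).asIdeal → ((d + 1 : ℕ) : ℕ∞) ≤
      LocCoh.depth (Localization.AtPrime (U.ι x).asIdeal) (Localization.AtPrime (U.ι x).asIdeal)) :
    (d : ℕ∞) ≤ LocCoh.depth (U.toScheme.presheaf.stalk x)
      ((DerSch.stalkFunctor U.toScheme x).obj ((Scheme.Modules.pushforward (divOn U t ^ (0 + 1)).subschemeι).obj F₀)) := by
  haveI : IsNoetherianRing (CommRingCat.of A) := inferInstanceAs (IsNoetherianRing A)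
  haveI : IsLocallyNoetherian U.toScheme := inferInstance
  let i := (divOn U t ^ (0 + 1)).subschemeι
  haveI : IsLocallyNoetherian (divOn U t ^ (0 + 1)).subscheme := LocallyOfFiniteType.isLocallyNoetherian i
  by_cases hx : x ∈ Set.range i
  · obtain ⟨z, rfl⟩ := hx
    obtain ⟨W, hW⟩ := FormalAlg.exists_affine (i z)
    have hst : DepthTwist.stI (divOn U t ^ (0 + 1)) W hW = Ideal.span {germA U (i z) t} := by
      rw [LefLib.stI_pow, stI_divOn]
      simp only [zero_add, pow_one]
    let σ := (i.stalkMap z).hom
    have hσ : RingHom.ker σ = Ideal.span {germA U (i z) t} :=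
      (CartierFP.ker_stalkMap_subschemeι (divOn U t ^ (0 + 1)) W z hW).trans hst
    have hsurj : Function.Surjective σ := i.stalkMap_surjective z
    have h0 : σ (germA U (i z) t) = 0 := RingHom.mem_ker.1 (hσ ▸ Ideal.mem_span_singleton_self _)
    letI alg := (gHom U (i z)).toAlgebra
    haveI := isLocalization_stalk U (i z)
    let e := IsLocalization.algEquiv (U.ι (i z)).asIdeal.primeCompl (Localization.AtPrime (U.ι (i z)).asIdeal)
      (U.toScheme.presheaf.stalk (i z))
    have hR : LocCoh.depth (Localization.AtPrime (U.ι (i z)).asIdeal) (Localization.AtPrime (U.ι (i z)).asIdeal) =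
        LocCoh.depth (U.toScheme.presheaf.stalk (i z)) (U.toScheme.presheaf.stalk (i z)) :=
      Alg6.depth_eq_of_semilinear e.toRingEquiv.toRingHom e.surjective e.toAddEquiv fun r v => map_mul e r v
    have hreg' : IsSMulRegular (U.toScheme.presheaf.stalk (i z)) (germA U (i z) t) := fun v w h => by
      rw [← sub_eq_zero]
      obtain ⟨b, k, hk, e⟩ := exists_germA_fraction U (i z) (v - w)
      have h0 : germA U (i z) t * (v - w) = 0 := by rw [mul_sub, sub_eq_zero]; exact h
      have h1 : germA U (i z) (t * b) = 0 := by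
        show gHom U (i z) (t * b) = 0
        rw [map_mul]
        show germA U (i z) t * germA U (i z) b = 0
        rw [← e, mul_left_comm, h0, mul_zero]
      obtain ⟨g, hg, e'⟩ := exists_kill_germA U (i z) _ h1
      have h2 : g * b = 0 := hreg (by
        show t * (g * b) = t * 0
        rw [mul_zero, mul_left_comm, e'])
      have h3 : germA U (i z) g * germA U (i z) b = 0 := by
        show gHom U (i z) g * gHom U (i z) b = 0
        rw [← map_mul, h2, map_zero]
      rw [(isUnit_germA U (i z) g hg).mul_right_eq_zero] at h3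
      rw [h3] at e
      exact (isUnit_germA U (i z) k hk).mul_right_eq_zero.1 e
    have hxt : t ∈ (U.ι (i z)).asIdeal := by
      by_contra hn
      exact not_isUnit_zero (h0 ▸ (isUnit_germA U (i z) t hn).map σ)
    have hS := depth_quot_regular σ hsurj (germA U (i z) t) hσ (by
        intro hu
        exact not_isUnit_zero (h0 ▸ hu.map σ)) hreg' d (hR ▸ hd hxt)
    haveI : Module.Free ((divOn U t ^ (0 + 1)).subscheme.presheaf.stalk z) (F₀.presheaf.stalk z) :=
      QCoh.free_stalk_of_isFinLocFree hF z
    haveI : Module.Finite ((divOn U t ^ (0 + 1)).subscheme.presheaf.stalk z) (F₀.presheaf.stalk z) :=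
      QCoh.finite_stalk_of_isFT (QCoh.isQCoh_of_isFinLocFree hF) (QCoh.isFT_of_isFP (QCoh.isFP_of_isFinLocFree hF)) z
    refine (hS.trans (depth_le_free (F₀.presheaf.stalk z))).trans_eq ?_
    exact (Alg6.depth_eq_of_semilinear σ hsurj (ExtShX.stalkPushEquiv i F₀ z)
      (ExtShX.stalkPushEquiv_smul i F₀ z)).symm
  · haveI := H23.ClosedPushLen.subsingleton_stalk (f := i) F₀ hx
    haveI : Subsingleton ((DerSch.stalkFunctor U.toScheme x).obj ((Scheme.Modules.pushforward i).obj F₀)) :=
      inferInstanceAs (Subsingleton (((Scheme.Modules.pushforward i).obj F₀).presheaf.stalk x))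
    exact le_top.trans_eq (if_pos (Subsingleton.elim _ _)).symm

end Groth.Agent.LefPunct2
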