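import Groth.Agent.PunctAlg.Alg
import Groth.Agent.FormalAlg.LocFree

/-!
# Algebraization with local freeness near the divisor
-/

set_option autoImplicit false
set_option linter.style.haveILetI false
set_option linter.unusedSectionVars false
set_option backward.isDefEq.respectTransparency false
set_option backward.isDefEq.respectTransparency.types false

universe u

open CategoryTheory CategoryTheory.Limits AlgebraicGeometry TopologicalSpace Opposite

noncomputable section

namespace Groth.Agent.LefPunct2

open Groth.Agent Groth.Agent.PunctAlg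

variable {A : Type u} [CommRing A] [IsNoetherianRing A] (U : (Spec (CommRingCat.of A)).Opens) (t : A)

/-- A locally free system with finite obstructions is the completion of a coherent module. -/
theorem exists_completion_iso_locFree [IsNoetherian (Spec (CommRingCat.of A))] [IsAdicComplete (Ideal.span {t}) A]
    (hreg : IsSMulRegular A t) (𝔐 : FSch.ModSys (FSch.completionAlong U.toScheme (divOn U t)))
    (h : ∀ n, FlatMod.IsFinLocFree (𝔐.F n))
    (h0 : Module.Finite A ((secF U).obj ((Scheme.Modules.pushforward (divOn U t ^ (0 + 1)).subschemeι).obj (𝔐.F 0))))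
    (h1 : Module.Finite A (Coh.HH (U : Scheme.{u})
      ((Scheme.Modules.pushforward (divOn U t ^ (0 + 1)).subschemeι).obj (𝔐.F 0)) 1)) :
    ∃ F : U.toScheme.Modules, Coh.IsCoh F ∧ Nonempty (FSch.complMod (divOn U t) F ≅ 𝔐) ∧
      ∃ V : U.toScheme.Opens, ((divOn U t).support : Set U.toScheme) ⊆ V ∧ FlatMod.IsFinLocFree (F.restrict V.ι) := by
  haveI : IsLocallyNoetherian U.toScheme := inferInstance
  let S := FormalAlg.ofModSys (isInvertible_divOn U t hreg) 𝔐 h
  have hG := isCohFormal_ofLevelSys U t S
  obtain ⟨F, hF, ⟨φ⟩⟩ := exists_algebraization U t hG (mono_inc_ofLevelSys U t S) h0 h1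
  let q : ∀ n, F ⟶ S.G n := fun n => Formal.modPowπ (Ideal.span {t}) (n + 1) F ≫ φ.hom.app (op n)
  have hqρ : ∀ n, q (n + 1) ≫ S.ρ n = q n := fun n => by
    have hn := φ.hom.naturality (homOfLE (Nat.le_succ n)).op
    have e₁ : (Formal.completion (Ideal.span {t}) F).map (homOfLE (Nat.le_succ n)).op =
        Formal.modPowTrans (Ideal.span {t}) (n + 1) F :=
      Functor.ofOpSequence_map_homOfLE_succ (X := fun n => Formal.modPow (Ideal.span {t}) (n + 1) F)
        (fun n => Formal.modPowTrans (Ideal.span {t}) (n + 1) F) n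
    rw [e₁, Functor.ofOpSequence_map_homOfLE_succ] at hn
    show (Formal.modPowπ (Ideal.span {t}) (n + 1 + 1) F ≫ φ.hom.app (op (n + 1))) ≫ S.ρ n = q n
    rw [Category.assoc, ← hn, ← Category.assoc]
    exact congrArg (· ≫ φ.hom.app (op n)) (Formal.modPowπ_trans _ _ _)
  have hqs : ∀ n (x : U.toScheme), Function.Surjective ((DerSch.stalkFunctor U.toScheme x).map (q n)) := fun n x => by
    show Function.Surjective ((DerSch.stalkFunctor U.toScheme x).map
      (Formal.modPowπ (Ideal.span {t}) (n + 1) F ≫ φ.hom.app (op n)))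
    rw [Functor.map_comp]
    exact (ConcreteCategory.bijective_of_isIso
      ((DerSch.stalkFunctor U.toScheme x).map (φ.hom.app (op n)))).2.comp (stalk_modPowπ_surjective U t F (n + 1) x)
  have hqk : ∀ n (W : U.toScheme.affineOpens) (x : U.toScheme) (hx : x ∈ W.1)
      (v : (DerSch.stalkFunctor U.toScheme x).obj F), (DerSch.stalkFunctor U.toScheme x).map (q n) v = 0 →
      v ∈ DepthTwist.stI (divOn U t) W hx ^ (n + 1) •
        (⊤ : Submodule (U.toScheme.presheaf.stalk x) ((DerSch.stalkFunctor U.toScheme x).obj F)) := by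
    intro n W x hx v hv
    have hv' : (DerSch.stalkFunctor U.toScheme x).map
        (Formal.modPowπ (Ideal.span {t}) (n + 1) F ≫ φ.hom.app (op n)) v = 0 := hv
    rw [Functor.map_comp, ConcreteCategory.comp_apply] at hv'
    obtain ⟨w, hw⟩ := stalk_modPowπ_ker U t F (n + 1) x v ((ConcreteCategory.bijective_of_isIso
      ((DerSch.stalkFunctor U.toScheme x).map (φ.hom.app (op n)))).1 (hv'.trans (map_zero _).symm))
    rw [FormalAlg.mem_pow_smul_top (stI_divOn U t W hx)]
    exact ⟨w, by rw [← hw, germA, germA, map_pow, map_pow]⟩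
  exact ⟨F, hF, FormalAlg.nonempty_iso_of_quotient (isInvertible_divOn U t hreg) 𝔐 h hF.1 q hqρ hqs hqk,
    FormalAlg.exists_open_locFree (isInvertible_divOn U t hreg) 𝔐 h hF q hqs hqk⟩

end Groth.Agent.LefPunct2
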