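import Groth.Agent.PunctAlg.Lef
import Groth.Agent.Adic7.Basic

/-!
# The Lefschetz condition on a punctured spectrum from finiteness of local cohomology
-/

set_option autoImplicit false
set_option linter.style.haveILetI false
set_option linter.unusedSectionVars false
set_option backward.isDefEq.respectTransparency false
set_option backward.isDefEq.respectTransparency.types false

universe u

open CategoryTheory CategoryTheory.Limits AlgebraicGeometry TopologicalSpace Opposite

noncomputable section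

namespace Groth.Agent.LefPunct2

open Groth.Agent Groth.Agent.PunctAlg

variable {A : Type u} [CommRing A] [IsNoetherianRing A] (a : Ideal A)

local notation "Ua" => LocCoh.puncturedOpen A a

/-- The map `A/I ⟶ A/J`. -/
abbrev qf {I J : Ideal A} (h : I ≤ J) : ModuleCat.of A (A ⧸ I) ⟶ ModuleCat.of A (A ⧸ J) :=
  ModuleCat.ofHom (Submodule.factor h)

theorem genS_comp {I J : Ideal A} (h : I ≤ J) :
    genS a I ≫ (H1Punct.Φ Ua).map (qf h) = genS a J := by
  refine S10945.hom_ext_top ?_
  show (secF Ua).map (genS a I ≫ (H1Punct.Φ Ua).map (qf h)) (oneS a) = (secF Ua).map (genS a J) (oneS a)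
  rw [Functor.map_comp, ConcreteCategory.comp_apply, secF_genS, secF_genS]
  exact (congr($(eSec_natural a (qf h)).hom (Ideal.Quotient.mk I 1))).trans rfl

/-- A finite module all of whose elements are killed by powers of `t` is killed by one power. -/
theorem exists_uniform_pow {H : Type*} [AddCommGroup H] [Module A H] [Module.Finite A H] (t : A)
    (h : ∀ x : H, ∃ k : ℕ, t ^ k • x = 0) : ∃ c : ℕ, ∀ x : H, t ^ c • x = 0 := by
  obtain ⟨s, hs⟩ := Module.finite_def.1 (inferInstance : Module.Finite A H)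
  choose k hk using h
  refine ⟨s.sup k, fun x => ?_⟩
  have hx : x ∈ Submodule.span A (s : Set H) := hs ▸ Submodule.mem_top
  induction hx using Submodule.span_induction with
  | mem y hy =>
    obtain ⟨j, hj⟩ := Nat.exists_eq_add_of_le (Finset.le_sup (f := k) hy)
    rw [hj, add_comm, pow_add, mul_smul, hk, smul_zero]
  | zero => exact smul_zero _
  | add y z _ _ hy hz => rw [smul_add, hy, hz, add_zero]
  | smul c y _ hy => rw [smul_comm, hy, smul_zero]

/-- First cohomology over the open is `a`-power torsion. -/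
theorem exists_pow_smul_HH1 {t : A} (hta : t ∈ a) (N : ModuleCat.{u} A)
    (x : Coh.HH ((Ua : (Spec (CommRingCat.of A)).Opens) : Scheme.{u}) (PhiU a N) 1) :
    ∃ k : ℕ, t ^ k • x = 0 := by
  let i := Injective.ι N
  let S : ShortComplex (ModuleCat.{u} A) := ShortComplex.mk i (cokernel.π i) (cokernel.condition _)
  have hS : S.ShortExact := { exact := ShortComplex.exact_cokernel i }
  haveI : PreservesFiniteLimits (tilde.functor (CommRingCat.of A)) :=
    QCoh.tilde_preservesFiniteLimits (R := CommRingCat.of A)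
  haveI : PreservesFiniteColimits (tilde.functor (CommRingCat.of A)) :=
    QCoh.tilde_preservesFiniteColimits (R := CommRingCat.of A)
  have hT : (S.map (H1Punct.Φ Ua)).ShortExact := hS.map_of_exact _
  haveI : Injective S.X₂ := inferInstanceAs (Injective (Injective.under N))
  obtain ⟨z, hz⟩ := δ_surjective _ hT (subsingleton_HH1_injective a S.X₂) x
  obtain ⟨k, hk⟩ := eSec_coker a S.X₃ z
  refine ⟨k, ?_⟩
  have h0 := LinearMap.mem_ker.1 (range_eSec_le_ker_δ a hS hT (hk (t ^ k) (Ideal.pow_mem_pow hta k)))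
  exact ((map_smul _ (t ^ k) z).trans (congrArg (t ^ k • ·) hz)).symm.trans h0

variable (t : A)

/-- `0 → A → A → A/t^{n+1} → 0`. -/
abbrev seq (n : ℕ) : ShortComplex (ModuleCat.{u} A) :=
  ShortComplex.mk
    (ModuleCat.ofHom (t ^ (n + 1) • (LinearMap.id : (A ⧸ (⊥ : Ideal A)) →ₗ[A] A ⧸ (⊥ : Ideal A))))
    (qf (show (⊥ : Ideal A) ≤ Ideal.span {t} ^ (n + 1) from bot_le))
    (by
      refine ModuleCat.hom_ext (LinearMap.ext fun r => ?_)
      obtain ⟨r, rfl⟩ := Ideal.Quotient.mk_surjective r
      show Submodule.factor (show (⊥ : Ideal A) ≤ Ideal.span {t} ^ (n + 1) from bot_le)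
        (t ^ (n + 1) • (Submodule.Quotient.mk r : A ⧸ (⊥ : Ideal A))) = 0
      rw [map_smul]
      show t ^ (n + 1) • (Submodule.Quotient.mk r : A ⧸ Ideal.span {t} ^ (n + 1)) = 0
      rw [← Submodule.Quotient.mk_smul, Submodule.Quotient.mk_eq_zero, smul_eq_mul]
      exact Ideal.mul_mem_right _ _ (Ideal.pow_mem_pow (Ideal.mem_span_singleton_self t) _))

theorem seq_shortExact (hreg : IsSMulRegular A t) (n : ℕ) : (seq t n).ShortExact := by
  haveI : Mono (seq t n).f := (ModuleCat.mono_iff_injective _).2 fun r r' h => by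
    obtain ⟨r, rfl⟩ := Ideal.Quotient.mk_surjective r
    obtain ⟨r', rfl⟩ := Ideal.Quotient.mk_surjective r'
    have h' : (Submodule.Quotient.mk (t ^ (n + 1) • r) : A ⧸ (⊥ : Ideal A)) =
        Submodule.Quotient.mk (t ^ (n + 1) • r') := by
      rw [Submodule.Quotient.mk_smul, Submodule.Quotient.mk_smul]; exact h
    rw [Submodule.Quotient.eq, Submodule.mem_bot, sub_eq_zero] at h'
    exact congrArg _ (hreg.pow (n + 1) h')
  haveI : Epi (seq t n).g := (ModuleCat.epi_iff_surjective _).2 fun r => by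
    obtain ⟨r, rfl⟩ := Ideal.Quotient.mk_surjective r
    exact ⟨Ideal.Quotient.mk _ r, rfl⟩
  refine { exact := (ShortComplex.moduleCat_exact_iff _).2 fun r hr => ?_ }
  obtain ⟨r, rfl⟩ := Ideal.Quotient.mk_surjective r
  have h0 : Ideal.Quotient.mk (Ideal.span {t} ^ (n + 1)) r = 0 := hr
  rw [Ideal.Quotient.eq_zero_iff_mem, Ideal.span_singleton_pow, Ideal.mem_span_singleton'] at h0
  obtain ⟨c, rfl⟩ := h0
  refine ⟨Ideal.Quotient.mk ⊥ c, ?_⟩
  show t ^ (n + 1) • (Submodule.Quotient.mk c : A ⧸ (⊥ : Ideal A)) = Submodule.Quotient.mk (c * t ^ (n + 1))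
  rw [← Submodule.Quotient.mk_smul, smul_eq_mul, mul_comm]

/-- The transition between two of these sequences. -/
def seqMap (n : ℕ) : seq t (n + 1) ⟶ seq t n where
  τ₁ := ModuleCat.ofHom (t • LinearMap.id)
  τ₂ := 𝟙 _
  τ₃ := qf (Ideal.pow_le_pow_right (Nat.le_succ (n + 1)))
  comm₁₂ := by
    refine ModuleCat.hom_ext (LinearMap.ext fun r => ?_)
    show t ^ (n + 1) • t • r = t ^ (n + 1 + 1) • r
    rw [smul_smul, ← pow_succ]
  comm₂₃ := by
    refine ModuleCat.hom_ext (LinearMap.ext fun r => ?_)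
    obtain ⟨r, rfl⟩ := Ideal.Quotient.mk_surjective r
    rfl

theorem secF_map_smul (N : ModuleCat.{u} A) (c : A) (x : (secF Ua).obj (PhiU a N)) :
    (secF Ua).map ((H1Punct.Φ Ua).map (ModuleCat.ofHom (c • (LinearMap.id : N →ₗ[A] N)))) x = c • x := by
  rw [H1Punct.Φ_map_smul]
  exact secF_smul _ _ c x

/-- The Lefschetz property of the structure sheaf when two local cohomology modules are finite. -/
theorem homToFormal_structure (hta : t ∈ a) (hreg : IsSMulRegular A t) [IsAdicComplete (Ideal.span {t}) A]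
    (h1 : Module.Finite A (LocCoh.H a 1 A)) (h2 : Module.Finite A (LocCoh.H a 2 A)) :
    Lef.HomToFormalBijective (idOn Ua (Ideal.span {t}))
      (Coh.structureModule (Ua : (Spec (CommRingCat.of A)).Opens).toScheme) := by
  let O := Coh.structureModule (Ua : (Spec (CommRingCat.of A)).Opens).toScheme
  let J : Ideal A := Ideal.span {t}
  let N0 : ModuleCat.{u} A := ModuleCat.of A (A ⧸ (⊥ : Ideal A))
  haveI : Module.Finite A N0 := inferInstanceAs (Module.Finite A (A ⧸ (⊥ : Ideal A)))
  have hN1 : Module.Finite A (LocCoh.H a 1 N0) := @Module.Finite.equiv _ _ _ _ _ _ _ _ h1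
    ((localCohomology a 1).mapIso (Submodule.quotEquivOfEqBot (⊥ : Ideal A) rfl).toModuleIso).symm.toLinearEquiv
  have hN2 : Module.Finite A (LocCoh.H a 2 N0) := @Module.Finite.equiv _ _ _ _ _ _ _ _ h2
    ((localCohomology a 2).mapIso (Submodule.quotEquivOfEqBot (⊥ : Ideal A) rfl).toModuleIso).symm.toLinearEquiv
  haveI : Module.Finite A ((secF Ua).obj (PhiU a N0)) := finite_secF a N0 hN1
  haveI := Adic7.isAdicComplete_of_finite (I := J) ((secF Ua).obj (PhiU a N0))
  haveI : Module.Finite A (Coh.HH ((Ua : (Spec (CommRingCat.of A)).Opens) : Scheme.{u}) (PhiU a N0) 1) :=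
    finite_HH1 a N0 hN2
  obtain ⟨c, hc⟩ := exists_uniform_pow t (exists_pow_smul_HH1 a hta N0)
  haveI : PreservesFiniteLimits (tilde.functor (CommRingCat.of A)) :=
    QCoh.tilde_preservesFiniteLimits (R := CommRingCat.of A)
  haveI : PreservesFiniteColimits (tilde.functor (CommRingCat.of A)) :=
    QCoh.tilde_preservesFiniteColimits (R := CommRingCat.of A)
  have hT : ∀ n, ((seq t n).map (H1Punct.Φ Ua)).ShortExact := fun n =>
    (seq_shortExact t hreg n).map_of_exact _
  let pr : ∀ n, (secF Ua).obj (PhiU a N0) ⟶ (secF Ua).obj (PhiU a (ModuleCat.of A (A ⧸ J ^ (n + 1)))) :=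
    fun n => (secF Ua).map ((H1Punct.Φ Ua).map (seq t n).g)
  have hker : ∀ n x, pr n x = 0 → x ∈ (J ^ (n + 1) • ⊤ : Submodule A ((secF Ua).obj (PhiU a N0))) := by
    intro n x hx
    obtain ⟨w, hw⟩ := (secF_exact _ (hT n) x).1 hx
    have hw' : t ^ (n + 1) • w = x := (secF_map_smul a N0 (t ^ (n + 1)) w).symm.trans hw
    rw [← hw']
    exact Submodule.smul_mem_smul (Ideal.pow_mem_pow (Ideal.mem_span_singleton_self t) _) Submodule.mem_top
  choose κ hκ using fun n : ℕ => toSubscheme_factor a (J ^ (n + 1)) (idOn Ua J ^ (n + 1))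
    (fun W x hx => stI_idOn_pow Ua J n W hx)
  haveI := isIso_genS_bot a
  let β := (secF Ua).mapIso (asIso (genS a (⊥ : Ideal A)))
  have hred : ∀ n (s : (secF Ua).obj O), (secF Ua).map (ClSub.toSubscheme (idOn Ua J ^ (n + 1))) s =
      (secF Ua).map (κ n).hom (pr n (β.hom s)) := fun n s => by
    rw [← hκ n, ← genS_comp a (show (⊥ : Ideal A) ≤ J ^ (n + 1) from bot_le), Functor.map_comp, Functor.map_comp,
      ConcreteCategory.comp_apply, ConcreteCategory.comp_apply]
    rfl
  have hext : ∀ {M : (Ua : (Spec (CommRingCat.of A)).Opens).toScheme.Modules} (f g : O ⟶ M),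
      (secF Ua).map f (oneS a) = (secF Ua).map g (oneS a) → f = g := fun f g h => S10945.hom_ext_top h
  refine ⟨fun φ ψ he => hext φ ψ ?_, fun y hy => ?_⟩
  · refine (ConcreteCategory.bijective_of_isIso β.hom).1 ?_
    rw [← sub_eq_zero]
    refine IsHausdorff.haus (I := J) inferInstance _ fun n => ?_
    rw [SModEq.zero]
    refine Submodule.smul_mono_left (Ideal.pow_le_pow_right (Nat.le_succ n)) (hker n _ ?_)
    rw [map_sub, sub_eq_zero]
    refine (ConcreteCategory.bijective_of_isIso ((secF Ua).map (κ n).hom)).1 ?_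
    rw [← hred, ← hred, ← ConcreteCategory.comp_apply, ← Functor.map_comp, he n, Functor.map_comp,
      ConcreteCategory.comp_apply]
  · let z : ∀ n, (secF Ua).obj (PhiU a (ModuleCat.of A (A ⧸ J ^ (n + 1)))) :=
      fun n => (secF Ua).map (κ n).inv ((secF Ua).map (y n) (oneS a))
    have hκq : ∀ n, (H1Punct.Φ Ua).map (seqMap t n).τ₃ ≫ (κ n).hom = (κ (n + 1)).hom ≫
        Lef.quotMap (I := idOn Ua J ^ (n + 1 + 1)) (J := idOn Ua J ^ (n + 1)) (Lef.pow_succ_le _ n) := fun n => by
      rw [← cancel_epi (genS a (J ^ (n + 1 + 1))), ← Category.assoc, ← Category.assoc, hκ,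
        show genS a (J ^ (n + 1 + 1)) ≫ (H1Punct.Φ Ua).map (seqMap t n).τ₃ = genS a (J ^ (n + 1)) from
          genS_comp a _, hκ]
      exact (LefLib.toSubscheme_quotMap _).symm
    have hκi : ∀ n v, (secF Ua).map (κ n).hom ((secF Ua).map (κ n).inv v) = v := fun n v => by
      rw [← ConcreteCategory.comp_apply, ← Functor.map_comp, Iso.inv_hom_id, CategoryTheory.Functor.map_id]; rfl
    have hz : ∀ n, (secF Ua).map ((H1Punct.Φ Ua).map (seqMap t n).τ₃) (z (n + 1)) = z n := fun n => by
      refine (ConcreteCategory.bijective_of_isIso ((secF Ua).map (κ n).hom)).1 ?_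
      refine Eq.trans ?_ (hκi n _).symm
      rw [← ConcreteCategory.comp_apply, ← Functor.map_comp, hκq n, Functor.map_comp,
        ConcreteCategory.comp_apply, hκi (n + 1)]
      rw [← ConcreteCategory.comp_apply, ← Functor.map_comp]
      exact congrArg (fun f => (secF Ua).map f (oneS a)) (hy n)
    let w : ℕ → Coh.HH ((Ua : (Spec (CommRingCat.of A)).Opens) : Scheme.{u}) (PhiU a N0) 1 :=
      fun n => δ _ (hT n) (z n)
    have hw : ∀ n, w n = t • w (n + 1) := fun n => by
      have h := δ_natural _ (hT (n + 1)) (hT n) ((H1Punct.Φ Ua).mapShortComplex.map (seqMap t n)) (z (n + 1))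
      refine ((congrArg (δ _ (hT n)) (hz n)).symm.trans h).trans ?_
      show PnCoh.Finite.mapLin A ((H1Punct.Φ Ua).map (ModuleCat.ofHom (t • LinearMap.id))) 1 (w (n + 1)) = _
      erw [H1Punct.Φ_map_smul _ N0 t]
      rfl
    have hw' : ∀ j n, w n = t ^ j • w (n + j) := fun j => by
      induction j with
      | zero => intro n; rw [pow_zero, one_smul]; rfl
      | succ j ih => intro n; rw [ih n, hw (n + j), ← mul_smul, ← pow_succ]; rfl
    have hbe : ∀ n, ∃ x : (secF Ua).obj (PhiU a N0), pr n x = z n := fun n =>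
      exists_of_δ_eq_zero _ (hT n) (z n) ((hw' c n).trans (hc _))
    choose b hb using hbe
    have hb' : ∀ n, pr n (b n) = z n := hb
    have hqq : ∀ n, (seq t (n + 1)).g ≫ (seqMap t n).τ₃ = (seq t n).g := fun n =>
      (seqMap t n).comm₂₃.symm.trans (Category.id_comp _)
    have hpr : ∀ n x, (secF Ua).map ((H1Punct.Φ Ua).map (seqMap t n).τ₃) (pr (n + 1) x) = pr n x := fun n x => by
      have e : pr (n + 1) ≫ (secF Ua).map ((H1Punct.Φ Ua).map (seqMap t n).τ₃) = pr n :=
        (((secF Ua).map_comp _ _).symm.trans (congrArg (secF Ua).map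
          (((H1Punct.Φ Ua).map_comp _ _).symm.trans (congrArg (H1Punct.Φ Ua).map (hqq n)))))
      exact congr($(e).hom x)
    have hstep : ∀ n, b (n + 1) - b n ∈ (J ^ (n + 1) • ⊤ : Submodule A ((secF Ua).obj (PhiU a N0))) := fun n => by
      refine hker n _ ?_
      rw [map_sub, sub_eq_zero, hb' n, ← hz n, ← hb' (n + 1)]
      exact (hpr n (b (n + 1))).symm
    have hcauchy : ∀ m n, m ≤ n →
        b n - b m ∈ (J ^ (m + 1) • ⊤ : Submodule A ((secF Ua).obj (PhiU a N0))) := fun m n hmn => by
      induction n, hmn using Nat.le_induction with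
      | base => rw [sub_self]; exact Submodule.zero_mem _
      | succ n hn ih =>
        rw [← sub_add_sub_cancel (b (n + 1)) (b n) (b m)]
        exact Submodule.add_mem _ (Submodule.smul_mono_left (Ideal.pow_le_pow_right (by omega)) (hstep n)) ih
    obtain ⟨L, hL⟩ := IsPrecomplete.prec (I := J) inferInstance (f := b) (fun {m n} hmn => by
      rw [SModEq.sub_mem, ← neg_sub]
      exact neg_mem (Submodule.smul_mono_left (Ideal.pow_le_pow_right (Nat.le_succ m)) (hcauchy m n hmn)))
    refine ⟨InvX.ofSect (show Γ(O, ⊤) from β.inv L), fun n => hext _ _ ?_⟩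
    rw [Functor.map_comp, ConcreteCategory.comp_apply]
    show (secF Ua).map (ClSub.toSubscheme (idOn Ua J ^ (n + 1)))
      ((secF Ua).map (InvX.ofSect (show Γ(O, ⊤) from β.inv L)) (oneS a)) = _
    rw [show (secF Ua).map (InvX.ofSect (show Γ(O, ⊤) from β.inv L)) (oneS a) = β.inv L from InvX.one_ofSect _,
      hred, ← ConcreteCategory.comp_apply β.inv, Iso.inv_hom_id, ConcreteCategory.id_apply]
    have h3 := hL (n + 1)
    rw [SModEq.sub_mem] at h3
    have h4 : L - b n ∈ (J ^ (n + 1) • ⊤ : Submodule A ((secF Ua).obj (PhiU a N0))) := by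
      rw [show L - b n = (b (n + 1) - b n) - (b (n + 1) - L) by abel]
      exact Submodule.sub_mem _ (hstep n) h3
    have h5 : pr n L = pr n (b n) := by
      rw [← sub_eq_zero, ← map_sub]
      refine Submodule.smul_induction_on (p := fun v => pr n v = 0) h4 (fun r hr x _ => ?_) fun x x' hx hx' => ?_
      ·
        rw [Ideal.span_singleton_pow, Ideal.mem_span_singleton'] at hr
        obtain ⟨r', rfl⟩ := hr
        rw [mul_comm, mul_smul]
        exact (secF_exact _ (hT n) _).2 ⟨r' • x, secF_map_smul a N0 _ _⟩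
      · rw [map_add, hx, hx', add_zero]
    rw [h5, hb']
    exact hκi n _

/-- The Lefschetz property of coherent modules. -/
theorem homToFormal_coh (hta : t ∈ a) (hreg : IsSMulRegular A t) [IsAdicComplete (Ideal.span {t}) A]
    (h1 : Module.Finite A (LocCoh.H a 1 A)) (h2 : Module.Finite A (LocCoh.H a 2 A))
    {G : (Ua : (Spec (CommRingCat.of A)).Opens).toScheme.Modules} (hG : Coh.IsCoh G) :
    Lef.HomToFormalBijective (idOn Ua (Ideal.span {t})) G := by
  haveI : IsNoetherianRing (CommRingCat.of A) := inferInstanceAs (IsNoetherianRing A)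
  haveI : IsNoetherian (Spec (CommRingCat.of A)) := inferInstance
  haveI : CompactSpace ((Ua : (Spec (CommRingCat.of A)).Opens) : Scheme.{u}) :=
    isCompact_iff_compactSpace.1 (NoetherianSpace.isCompact (Ua : Set (Spec (CommRingCat.of A))))
  haveI : IsNoetherian ((Ua : (Spec (CommRingCat.of A)).Opens) : Scheme.{u}) := ⟨⟩
  haveI := isQuasiAffine_puncturedOpen a
  exact LefLib.homToFormal_of_quasiAffine (homToFormal_structure a t hta hreg h1 h2) hG

end Groth.Agent.LefPunct2
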